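import Mathlib

/-!
# `e f ≤ n` for arbitrary extensions of discrete valuation rings
-/

set_option autoImplicit false
universe u

open IsLocalRing

namespace Dvr24

variable {A B : Type u} [CommRing A] [IsDomain A] [IsDiscreteValuationRing A] [CommRing B]
  [IsDomain B] [IsDiscreteValuationRing B] [Algebra A B] [IsLocalHom (algebraMap A B)]

lemma exists_map_maximalIdeal_eq (hinj : Function.Injective (algebraMap A B))
    {π : B} (hπ : Irreducible π) :
    ∃ e : ℕ, 0 < e ∧ (maximalIdeal A).map (algebraMap A B) = Ideal.span {π ^ e} ∧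
      Ideal.ramificationIdx' (maximalIdeal A) (maximalIdeal B) = e := by
  have hne : (maximalIdeal A).map (algebraMap A B) ≠ ⊥ :=
    (Ideal.map_eq_bot_iff_of_injective hinj).not.mpr (IsDiscreteValuationRing.not_a_field A)
  obtain ⟨e, he⟩ := IsDiscreteValuationRing.ideal_eq_span_pow_irreducible hne hπ
  have hle : (maximalIdeal A).map (algebraMap A B) ≤ maximalIdeal B :=
    Ideal.map_le_iff_le_comap.mpr fun x hx => map_nonunit (algebraMap A B) x hx
  have hm : maximalIdeal B = Ideal.span {π} := (IsDiscreteValuationRing.irreducible_iff_uniformizer π).mp hπ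
  refine ⟨e, ?_, he, ?_⟩
  · rcases Nat.eq_zero_or_pos e with rfl | h
    · rw [he, pow_zero, Ideal.span_singleton_one, top_le_iff] at hle
      exact absurd hle (IsLocalRing.maximalIdeal.isMaximal B).ne_top
    · exact h
  · apply Ideal.ramificationIdx'_spec
    · rw [he, hm, Ideal.span_singleton_pow]
    · rw [he, hm, Ideal.span_singleton_pow, Ideal.span_singleton_le_span_singleton]
      intro h
      exact absurd ((pow_dvd_pow_iff hπ.ne_zero hπ.not_isUnit).mp h) (by omega)

/-- Products of elements with independent residues and small powers of a uniformizer are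
independent over the smaller valuation ring. -/
lemma linearIndependent_smul_pow (hinj : Function.Injective (algebraMap A B)) {π : B}
    (hπ : Irreducible π) {e : ℕ}
    (he : (maximalIdeal A).map (algebraMap A B) = Ideal.span {π ^ e}) {ι : Type*} [Fintype ι]
    (b : ι → B) (hb : LinearIndependent (ResidueField A) fun i => residue B (b i)) :
    LinearIndependent A fun x : Fin e × ι => π ^ (x.1 : ℕ) * b x.2 := by
  classical
  rw [Fintype.linearIndependent_iff]
  -- all coefficients of a relation lie in the maximal ideal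
  have step : ∀ c : Fin e × ι → A, ∑ x, c x • (π ^ (x.1 : ℕ) * b x.2) = 0 →
      ∀ x, c x ∈ maximalIdeal A := by
    intro c hc
    suffices ∀ j : ℕ, ∀ x : Fin e × ι, (x.1 : ℕ) = j → c x ∈ maximalIdeal A from
      fun x => this _ x rfl
    intro j
    induction j using Nat.strong_induction_on with
    | _ j ih =>
      rintro ⟨j₀, i₀⟩ (rfl : (j₀ : ℕ) = j)
      have hm : maximalIdeal B = Ideal.span {π} :=
        (IsDiscreteValuationRing.irreducible_iff_uniformizer π).mp hπ
      let v : B := ∑ i, c (j₀, i) • b i
      have hv : π ^ (j₀ : ℕ) * v ∈ Ideal.span ({π ^ ((j₀ : ℕ) + 1)} : Set B) := by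
        rw [Fintype.sum_prod_type, ← Finset.add_sum_erase _ _ (Finset.mem_univ j₀)] at hc
        have : π ^ (j₀ : ℕ) * v = ∑ i, c (j₀, i) • (π ^ (j₀ : ℕ) * b i) := by
          simp only [v, Finset.mul_sum, mul_smul_comm]
        rw [this, eq_neg_of_add_eq_zero_left hc]
        refine neg_mem (Ideal.sum_mem _ fun j hj => Ideal.sum_mem _ fun i _ => ?_)
        rw [Finset.mem_erase] at hj
        rw [Algebra.smul_def, Ideal.mem_span_singleton]
        have hne : (j : ℕ) ≠ j₀ := fun h => hj.1 (Fin.ext h)
        rcases lt_or_gt_of_ne hne with hlt | hgt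
        · have hmem := Ideal.mem_map_of_mem (algebraMap A B) (ih j hlt (j, i) rfl)
          rw [he, Ideal.mem_span_singleton] at hmem
          exact ((pow_dvd_pow π (by omega : (j₀ : ℕ) + 1 ≤ e)).trans hmem).mul_right _
        · exact ((pow_dvd_pow π (by omega : (j₀ : ℕ) + 1 ≤ j)).mul_right _).mul_left _
      have hvm : residue B v = 0 := by
        rw [residue_eq_zero_iff, hm, Ideal.mem_span_singleton]
        rw [Ideal.mem_span_singleton, pow_succ] at hv
        exact (mul_dvd_mul_iff_left (pow_ne_zero _ hπ.ne_zero)).mp hv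
      have hzero := Fintype.linearIndependent_iff.mp hb (fun i => residue A (c (j₀, i))) (by
        rw [← hvm, map_sum]
        refine Finset.sum_congr rfl fun i _ => ?_
        rw [Algebra.smul_def (c (j₀, i)), map_mul, Algebra.smul_def]
        rfl) i₀
      exact (residue_eq_zero_iff _).mp hzero
  obtain ⟨ϖ, hϖ⟩ := IsDiscreteValuationRing.exists_irreducible A
  have hmA : maximalIdeal A = Ideal.span {ϖ} :=
    (IsDiscreteValuationRing.irreducible_iff_uniformizer ϖ).mp hϖ
  intro c hc
  have hdvd : ∀ n : ℕ, ∀ c : Fin e × ι → A, ∑ x, c x • (π ^ (x.1 : ℕ) * b x.2) = 0 →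
      ∀ x, ϖ ^ n ∣ c x := by
    intro n
    induction n with
    | zero => simp
    | succ n ih =>
      intro c hc x
      choose d hd using fun x => ih c hc x
      have hd' : ∑ x, d x • (π ^ (x.1 : ℕ) * b x.2) = 0 := by
        have h0 : algebraMap A B (ϖ ^ n) * ∑ x, d x • (π ^ (x.1 : ℕ) * b x.2) = 0 := by
          refine (Eq.trans ?_ hc)
          rw [← Algebra.smul_def, Finset.smul_sum]
          exact Finset.sum_congr rfl fun x _ => by rw [smul_smul, hd x]
        refine (mul_eq_zero.mp h0).resolve_left ?_
        exact fun h => pow_ne_zero n hϖ.ne_zero (hinj (h.trans (map_zero _).symm))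
      have := step d hd' x
      rw [hmA, Ideal.mem_span_singleton] at this
      rw [hd x, pow_succ]
      exact mul_dvd_mul_left _ this
  intro x
  by_contra hne
  obtain ⟨n, hn⟩ := IsDiscreteValuationRing.associated_pow_irreducible hne hϖ
  have := (hdvd (n + 1) c hc x).trans hn.dvd
  exact absurd ((pow_dvd_pow_iff hϖ.ne_zero hϖ.not_isUnit).mp this) (by omega)

theorem finite_and_mul_le {K L : Type u} (hinj : Function.Injective (algebraMap A B))
    [Field K] [Field L] [Algebra A K] [IsFractionRing A K] [Algebra B L] [IsFractionRing B L]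
    [Algebra K L] [Algebra A L] [IsScalarTower A K L] [IsScalarTower A B L] [FiniteDimensional K L] :
    Module.Finite (ResidueField A) (ResidueField B) ∧
      Ideal.ramificationIdx' (maximalIdeal A) (maximalIdeal B) *
          Module.finrank (ResidueField A) (ResidueField B) ≤ Module.finrank K L := by
  obtain ⟨π, hπ⟩ := IsDiscreteValuationRing.exists_irreducible B
  obtain ⟨e, hepos, he, hram⟩ := exists_map_maximalIdeal_eq hinj hπ
  have key : ∀ {ι : Type u} [Fintype ι] (r : ι → ResidueField B),
      LinearIndependent (ResidueField A) r → e * Fintype.card ι ≤ Module.finrank K L := by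
    intro ι _ r hr
    choose b hb using fun i => residue_surjective (r i)
    have h1 := linearIndependent_smul_pow hinj hπ he b
      (by rwa [show (fun i => residue B (b i)) = r from funext hb])
    have h2 := h1.map' (IsScalarTower.toAlgHom A B L).toLinearMap
      (LinearMap.ker_eq_bot.mpr (IsFractionRing.injective B L))
    rw [LinearIndependent.iff_fractionRing (R := A) (K := K)] at h2
    have := h2.fintype_card_le_finrank
    rwa [Fintype.card_prod, Fintype.card_fin] at this
  have hrank : Module.rank (ResidueField A) (ResidueField B) ≤ (Module.finrank K L : ℕ) :=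
    rank_le fun s hs => (Nat.le_mul_of_pos_left _ hepos).trans
      (by simpa using key (fun i : s => (i : ResidueField B)) hs)
  have hfin : Module.Finite (ResidueField A) (ResidueField B) :=
    Module.rank_lt_aleph0_iff.mp (hrank.trans_lt (Cardinal.natCast_lt_aleph0))
  refine ⟨hfin, ?_⟩
  let bb := Module.Free.chooseBasis (ResidueField A) (ResidueField B)
  have := key bb bb.linearIndependent
  rwa [← Module.finrank_eq_card_basis bb, ← hram] at this

/-- In a purely inseparable extension the ramification index is a power of the characteristic. -/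
theorem ramificationIdx_eq_pow {K L : Type u} (hinj : Function.Injective (algebraMap A B))
    [Field K] [Field L] [Algebra A K] [IsFractionRing A K] [Algebra B L] [IsFractionRing B L]
    [Algebra K L] [Algebra A L] [IsScalarTower A K L] [IsScalarTower A B L]
    (p : ℕ) (hp : p.Prime) [CharP K p] [IsPurelyInseparable K L] :
    ∃ k : ℕ, Ideal.ramificationIdx' (maximalIdeal A) (maximalIdeal B) = p ^ k := by
  obtain ⟨π, hπ⟩ := IsDiscreteValuationRing.exists_irreducible B
  obtain ⟨ϖ, hϖ⟩ := IsDiscreteValuationRing.exists_irreducible A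
  obtain ⟨e, hepos, he, hram⟩ := exists_map_maximalIdeal_eq hinj hπ
  have hmA : maximalIdeal A = Ideal.span {ϖ} :=
    (IsDiscreteValuationRing.irreducible_iff_uniformizer ϖ).mp hϖ
  rw [hmA, Ideal.map_span, Set.image_singleton] at he
  obtain ⟨w, hw⟩ := (Ideal.span_singleton_eq_span_singleton.mp he).symm
  -- the valuation of `ϖ ^ n` upstairs is `e * n`
  have hval : ∀ a : A, a ≠ 0 → ∃ n : ℕ, ∃ v : Bˣ, algebraMap A B a = (v : B) * π ^ (e * n) := by
    intro a ha
    obtain ⟨n, v, rfl⟩ := IsDiscreteValuationRing.eq_unit_mul_pow_irreducible ha hϖ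
    refine ⟨n, Units.map (algebraMap A B).toMonoidHom v * w ^ n, ?_⟩
    rw [map_mul, map_pow, ← hw, Units.val_mul, Units.val_pow_eq_pow_val, Units.coe_map,
      RingHom.toMonoidHom_eq_coe, MonoidHom.coe_coe, mul_pow, pow_mul]
    ring
  have : ExpChar K p := ExpChar.prime hp
  obtain ⟨k, x, hx⟩ := IsPurelyInseparable.pow_mem K p (algebraMap B L π)
  obtain ⟨a, b, hb, rfl⟩ := IsFractionRing.div_surjective (A := A) x
  have hb0 : b ≠ 0 := nonZeroDivisors.ne_zero hb
  have hbL : algebraMap A L b ≠ 0 := by
    rw [IsScalarTower.algebraMap_apply A B L, map_ne_zero_iff _ (IsFractionRing.injective B L),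
      map_ne_zero_iff _ hinj]
    exact hb0
  rw [map_div₀, ← IsScalarTower.algebraMap_apply, ← IsScalarTower.algebraMap_apply,
    div_eq_iff hbL, IsScalarTower.algebraMap_apply A B L, IsScalarTower.algebraMap_apply A B L b,
    ← map_pow, ← map_mul] at hx
  have hx' := IsFractionRing.injective B L hx
  have ha0 : a ≠ 0 := by
    rintro rfl
    rw [map_zero] at hx'
    exact mul_ne_zero (pow_ne_zero _ hπ.ne_zero) ((map_ne_zero_iff _ hinj).mpr hb0) hx'.symm
  obtain ⟨na, va, hva⟩ := hval a ha0
  obtain ⟨nb, vb, hvb⟩ := hval b hb0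
  rw [hva, hvb, ← mul_assoc, mul_comm _ (vb : B), mul_assoc, ← pow_add] at hx'
  have heq : e * na = p ^ k + e * nb :=
    IsDiscreteValuationRing.unit_mul_pow_congr_pow hπ hπ va vb _ _ hx'
  have hdvd : e ∣ p ^ k := ⟨na - nb, by rw [Nat.mul_sub]; omega⟩
  obtain ⟨i, -, hi⟩ := (Nat.dvd_prime_pow hp).mp hdvd
  exact ⟨i, hram.trans hi⟩

end Dvr24
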