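import Mathlib

/-!
# The polynomial `((1 + w z)^p - 1) / w^p`
-/

set_option autoImplicit false
universe u

open Polynomial

namespace Dvr24

/-- The universal case. -/
lemma exists_kummer_artin_schreier_domain (p : ℕ) (hp : p.Prime) (R : Type*) [CommRing R]
    [IsDomain R] (ζ : R) (hζ : IsPrimitiveRoot ζ p) (h1 : ζ ≠ 1) :
    ∃ a : ℕ → R, (∀ i, a i ∈ Ideal.span {1 - ζ}) ∧
      C ((1 - ζ) ^ p) * (X ^ p - X + (Finset.Ioo 0 p).sum (fun i => C (a i) * X ^ i)) =
        (1 + C (1 - ζ) * X) ^ p - 1 := by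
  classical
  have : Fact p.Prime := ⟨hp⟩
  set w : R := 1 - ζ with hwdef
  have hw0 : w ≠ 0 := sub_ne_zero.mpr (Ne.symm h1)
  have hdvd : ∀ μ ∈ primitiveRoots p R, w ∣ 1 - μ := by
    intro μ hμ
    obtain ⟨k, -, rfl⟩ := hζ.eq_pow_of_pow_eq_one ((mem_primitiveRoots hp.pos).mp hμ).pow_eq_one
    simpa using sub_dvd_pow_sub_pow 1 ζ k
  have hprod : ∏ μ ∈ primitiveRoots p R, (1 - μ) = (p : R) := by
    rw [← Polynomial.eval_one_cyclotomic_prime (p := p) (R := R),
      cyclotomic_eq_prod_X_sub_primitiveRoots hζ]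
    simp [Polynomial.eval_prod]
  obtain ⟨u, hu⟩ : w ^ (p - 1) ∣ (p : R) := by
    rw [← hprod, ← Nat.totient_prime hp, ← hζ.card_primitiveRoots, ← Finset.prod_const]
    exact Finset.prod_dvd_prod_of_dvd _ _ hdvd
  have hpw : (p : R) ∈ Ideal.span {w} := by
    rw [Ideal.mem_span_singleton, hu]
    exact (dvd_pow_self w (by have := hp.two_le; omega)).mul_right _
  -- the coefficients
  let b : ℕ → R := fun i => ((p.choose i / p : ℕ) : R) * u * w ^ (i - 1)
  let a : ℕ → R := fun i => if i = 1 then u + 1 else if i ∈ Finset.Ioo 0 p then b i else 0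
  have hb1 : b 1 = u := by simp [b, Nat.div_self hp.pos]
  let Q : R[X] := X ^ p + ∑ i ∈ Finset.Ioo 0 p, C (b i) * X ^ i
  have h1mem : 1 ∈ Finset.Ioo 0 p := Finset.mem_Ioo.mpr ⟨Nat.one_pos, hp.one_lt⟩
  have hQ : Q = X ^ p - X + (Finset.Ioo 0 p).sum (fun i => C (a i) * X ^ i) := by
    have : ∀ i ∈ Finset.Ioo 0 p, C (a i) * X ^ i = C (b i) * X ^ i + if i = 1 then X else 0 := by
      intro i hi
      by_cases h : i = 1
      · subst h; simp [a, hb1]; ring
      · rw [Finset.mem_Ioo] at hi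
        simp [a, h, hi.1, hi.2]
    rw [Finset.sum_congr rfl this, Finset.sum_add_distrib, Finset.sum_ite_eq' _ 1, if_pos h1mem]
    simp only [Q]; ring
  have hid : C (w ^ p) * Q = (1 + C w * X) ^ p - 1 := by
    have hr : Finset.range (p + 1) = insert p (insert 0 (Finset.Ioo 0 p)) := by
      ext i; simp only [Finset.mem_range, Finset.mem_insert, Finset.mem_Ioo]; omega
    rw [add_comm (1 : R[X]), add_pow, hr, Finset.sum_insert (by simp [hp.ne_zero]),
      Finset.sum_insert (by simp)]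
    simp only [Q, mul_add, Finset.mul_sum, one_pow, mul_one, Nat.choose_self, Nat.cast_one,
      pow_zero, Nat.choose_zero_right, mul_pow, ← C_pow]
    have : ∀ i ∈ Finset.Ioo 0 p,
        C (w ^ i) * X ^ i * (p.choose i : R[X]) = C (w ^ p) * (C (b i) * X ^ i) := by
      intro i hi
      rw [Finset.mem_Ioo] at hi
      obtain ⟨c, hc⟩ := hp.dvd_choose_self (by omega) hi.2
      have hsplit : w ^ p * w ^ (i - 1) = w ^ (p - 1) * w ^ i := by
        rw [← pow_add, ← pow_add]; congr 1; omega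
      have : w ^ i * (p.choose i : R) = w ^ p * b i := by
        simp only [b]
        rw [hc, Nat.mul_div_cancel_left c hp.pos, Nat.cast_mul, hu]
        linear_combination ((c : R) * u) * hsplit.symm
      rw [← C_eq_natCast, mul_right_comm, ← C_mul, this, C_mul, mul_assoc]
    rw [Finset.sum_congr rfl this]
    ring
  have hmem : ∀ i, i ≠ 1 → a i ∈ Ideal.span {w} := by
    intro i hi
    simp only [a, if_neg hi]
    split_ifs with h
    · rw [Finset.mem_Ioo] at h
      exact Ideal.mem_span_singleton.mpr (((dvd_pow_self w (by omega : i - 1 ≠ 0))).mul_left _)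
    · exact Ideal.zero_mem _
  refine ⟨a, fun i => ?_, by rw [← hQ]; exact hid⟩
  by_cases hi : i = 1
  swap
  · exact hmem i hi
  subst hi
  -- evaluate at `-1`
  have hev : Q.eval (-1) = 0 := by
    have h2 := congrArg (Polynomial.eval (-1 : R)) hid
    simp only [eval_mul, eval_C, eval_sub, eval_pow, eval_add, eval_one, eval_X] at h2
    rw [show 1 + w * -1 = ζ by simp [hwdef], hζ.pow_eq_one, sub_self] at h2
    exact (mul_eq_zero.mp h2).resolve_left (pow_ne_zero _ hw0)
  rw [hQ] at hev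
  simp only [eval_add, eval_sub, eval_pow, eval_X, eval_finsetSum, eval_mul, eval_C] at hev
  rw [← Finset.add_sum_erase _ _ h1mem] at hev
  have hrest : ∑ i ∈ (Finset.Ioo 0 p).erase 1, a i * (-1) ^ i ∈ Ideal.span {w} :=
    Ideal.sum_mem _ fun i hi => Ideal.mul_mem_right _ _ (hmem i (Finset.ne_of_mem_erase hi))
  have hsign : (-1 : R) ^ p + 1 ∈ Ideal.span {w} := by
    rcases hp.eq_two_or_odd' with rfl | hodd
    · simpa [one_add_one_eq_two] using hpw
    · simp [hodd.neg_one_pow]
  have : a 1 = ((-1 : R) ^ p + 1) + ∑ i ∈ (Finset.Ioo 0 p).erase 1, a i * (-1) ^ i := by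
    linear_combination -hev
  rw [this]
  exact Ideal.add_mem _ hsign hrest

theorem exists_kummer_artin_schreier (p : ℕ) (hp : p.Prime) (A : Type u) [CommRing A] (ζ : A)
    (hζ : aeval ζ (cyclotomic p ℤ) = 0) :
    ∃ P : A[X], C ((1 - ζ) ^ p) * P = (1 + C (1 - ζ) * X) ^ p - 1 ∧
      (∃ a : ℕ → A, (∀ i, a i ∈ Ideal.span {1 - ζ}) ∧
        P = X ^ p - X + (Finset.Ioo 0 p).sum (fun i => C (a i) * X ^ i)) ∧
      ∀ (S : Type u) [CommRing S] [Algebra A S] (z₁ z₂ : S),
        aeval (z₁ + z₂ + algebraMap A S (1 - ζ) * z₁ * z₂) P =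
          aeval z₁ P + aeval z₂ P + algebraMap A S ((1 - ζ) ^ p) * aeval z₁ P * aeval z₂ P := by
  classical
  let R := AdjoinRoot (cyclotomic p ℤ)
  have : IsDomain R := by
    have hprime : Prime (cyclotomic p ℤ) := (cyclotomic.irreducible hp.pos).prime
    have := (Ideal.span_singleton_prime hprime.ne_zero).mpr hprime
    exact inferInstanceAs (IsDomain (ℤ[X] ⧸ Ideal.span {cyclotomic p ℤ}))
  have hinj : Function.Injective (AdjoinRoot.of (cyclotomic p ℤ)) :=
    AdjoinRoot.of.injective_of_degree_ne_zero (degree_cyclotomic_pos p ℤ hp.pos).ne'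
  have hp0 : NeZero ((p : ℕ) : R) := ⟨by
    rw [← map_natCast (AdjoinRoot.of (cyclotomic p ℤ)), map_ne_zero_iff _ hinj]
    exact_mod_cast hp.ne_zero⟩
  let r : R := AdjoinRoot.root _
  have hr : IsPrimitiveRoot r p := by
    rw [← isRoot_cyclotomic_iff, ← map_cyclotomic_int p R, IsRoot, eval_map]
    have := AdjoinRoot.eval₂_root (cyclotomic p ℤ)
    convert! this using 2
  have hr1 : r ≠ 1 := hr.ne_one hp.one_lt
  obtain ⟨a, ha, hid⟩ := exists_kummer_artin_schreier_domain p hp R r hr hr1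
  let φ : R →+* A := AdjoinRoot.lift (Int.castRingHom A) ζ (by
    rw [← hζ, aeval_def]; congr 1)
  have hφ : φ r = ζ := AdjoinRoot.lift_root _
  set P₀ : R[X] := X ^ p - X + (Finset.Ioo 0 p).sum (fun i => C (a i) * X ^ i) with hP₀
  refine ⟨P₀.map φ, ?_, ⟨fun i => φ (a i), fun i => ?_, ?_⟩, ?_⟩
  · have := congrArg (Polynomial.map φ) hid
    simp only [Polynomial.map_mul, Polynomial.map_sub, Polynomial.map_pow, Polynomial.map_add,
      Polynomial.map_one, map_C, map_X, map_pow, map_sub, map_one, hφ] at this ⊢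
    exact this
  · have := Ideal.mem_map_of_mem φ (ha i)
    rwa [Ideal.map_span, Set.image_singleton, map_sub, map_one, hφ] at this
  · simp [hP₀, Polynomial.map_sum]
  intro S _ _ z₁ z₂
  let T := MvPolynomial (Fin 2) R
  let q := fun t : T => aeval t P₀
  have hq : ∀ t : T, MvPolynomial.C ((1 - r) ^ p) * q t = (1 + MvPolynomial.C (1 - r) * t) ^ p - 1 := by
    intro t
    have := congrArg (aeval t) hid
    simp only [map_mul, map_sub, map_pow, map_add, map_one, aeval_C, aeval_X] at this ⊢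
    exact this
  let x : T := MvPolynomial.X 0
  let y : T := MvPolynomial.X 1
  let w : T := MvPolynomial.C (1 - r)
  have huniv : q (x + y + w * x * y) = q x + q y + w ^ p * q x * q y := by
    refine mul_left_cancel₀ (pow_ne_zero p (MvPolynomial.C_ne_zero.mpr
      (sub_ne_zero.mpr (Ne.symm hr1))) : w ^ p ≠ 0) ?_
    have hC : w ^ p = MvPolynomial.C ((1 - r) ^ p) := by simp [w]
    have e1 := hq (x + y + w * x * y)
    have e2 := hq x
    have e3 := hq y
    rw [← hC] at e1 e2 e3
    rw [e1, show 1 + MvPolynomial.C (1 - r) * (x + y + w * x * y) = (1 + w * x) * (1 + w * y) by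
      simp only [w]; ring, mul_pow]
    linear_combination -e2 - e3 - (w ^ p * q x) * e3 - ((1 + w * y) ^ p - 1) * e2
  let ψ : T →+* S := MvPolynomial.eval₂Hom ((algebraMap A S).comp φ) ![z₁, z₂]
  have hψ : ∀ t : T, ψ (q t) = aeval (ψ t) (P₀.map φ) := by
    intro t
    have hc : ψ.comp (algebraMap R T) = (algebraMap A S).comp φ := by
      refine RingHom.ext fun c => ?_
      show MvPolynomial.eval₂Hom _ _ (MvPolynomial.C c) = _
      exact MvPolynomial.eval₂_C _ _ _
    simp only [q, aeval_def, eval₂_map, hom_eval₂, hc]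
  have := congrArg ψ huniv
  simp only [map_add, map_mul, map_pow, hψ] at this
  have ex : ψ x = z₁ := MvPolynomial.eval₂_X _ _ _
  have ey : ψ y = z₂ := MvPolynomial.eval₂_X _ _ _
  have ew : ψ w = algebraMap A S (1 - ζ) := by
    rw [← hφ, ← map_one φ, ← map_sub]
    exact MvPolynomial.eval₂_C _ _ _
  rw [ex, ey, ew] at this
  rw [map_pow]
  exact this

end Dvr24
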